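import Cfsg.Agent.CosetEnum.Bound

/-! Machine-generated data: the action on 100 points. -/

set_option maxRecDepth 100000

namespace Cfsg.Agent.HNBound.Hundred

/-- the letters on the points -/
def tabs : List (List ℕ) := [[0, 1, 2, 3, 4, 5, 6, 7, 8, 9, 10, 11, 12, 13, 14, 15, 16, 17, 18, 19, 20, 21, 22, 23, 24, 25, 26, 27, 28, 29, 30, 31, 32, 33, 34, 35, 36, 37, 38, 39, 40, 41, 42, 43, 44, 45, 46, 47, 48, 49, 50, 51, 52, 53, 54, 55, 56, 57, 58, 59, 60, 61, 62, 63, 64, 65, 66, 67, 68, 69, 70, 71, 72, 73, 74, 75, 76, 77, 78, 79, 80, 81, 82, 83, 84, 85, 86, 87, 88, 89, 90, 91, 92, 93, 94, 95, 96, 97, 98, 99],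
    [1, 0, 4, 5, 2, 3, 9, 12, 14, 6, 16, 18, 7, 20, 8, 23, 10, 27, 11, 31, 13, 32, 34, 15, 37, 38, 42, 17, 45, 44, 47, 19, 21, 50, 22, 52, 51, 24, 25, 56, 46, 58, 26, 60, 29, 28, 40, 30, 66, 67, 33, 36, 35, 70, 72, 63, 39, 64, 41, 75, 43, 76, 65, 55, 57, 62, 48, 49, 77, 80, 53, 83, 54, 84, 86, 59, 61, 68, 90, 89, 69, 92, 94, 71, 73, 95, 74, 88, 87, 79, 78, 97, 81, 98, 82, 85, 99, 91, 93, 96],
    [1, 0, 4, 5, 2, 3, 9, 12, 14, 6, 16, 18, 7, 20, 8, 23, 10, 27, 11, 31, 13, 32, 34, 15, 37, 38, 42, 17, 45, 44, 47, 19, 21, 50, 22, 52, 51, 24, 25, 56, 46, 58, 26, 60, 29, 28, 40, 30, 66, 67, 33, 36, 35, 70, 72, 63, 39, 64, 41, 75, 43, 76, 65, 55, 57, 62, 48, 49, 77, 80, 53, 83, 54, 84, 86, 59, 61, 68, 90, 89, 69, 92, 94, 71, 73, 95, 74, 88, 87, 79, 78, 97, 81, 98, 82, 85, 99, 91, 93, 96],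
    [2, 4, 0, 7, 8, 10, 11, 13, 1, 15, 17, 3, 19, 21, 22, 24, 26, 28, 30, 32, 33, 6, 35, 37, 39, 41, 36, 29, 46, 27, 42, 49, 12, 20, 47, 53, 34, 54, 55, 44, 57, 59, 18, 61, 62, 63, 64, 65, 45, 25, 68, 14, 69, 71, 73, 74, 60, 52, 72, 76, 48, 77, 9, 78, 5, 16, 43, 66, 79, 81, 82, 51, 80, 85, 87, 38, 31, 89, 56, 50, 91, 93, 70, 23, 92, 83, 88, 90, 96, 67, 75, 95, 94, 40, 84, 98, 86, 97, 58, 99],
    [2, 8, 0, 11, 1, 64, 21, 3, 4, 62, 5, 6, 32, 7, 51, 9, 65, 10, 42, 12, 33, 13, 14, 83, 15, 49, 16, 29, 17, 27, 18, 76, 19, 20, 36, 22, 26, 23, 75, 24, 93, 25, 30, 66, 39, 48, 28, 34, 60, 31, 79, 71, 57, 35, 37, 38, 78, 40, 98, 41, 56, 43, 44, 45, 46, 47, 67, 89, 50, 52, 82, 53, 58, 54, 55, 90, 59, 61, 63, 68, 72, 69, 70, 85, 94, 73, 96, 74, 86, 77, 87, 80, 84, 81, 92, 91, 88, 97, 95, 99],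
    [3, 5, 6, 0, 9, 1, 2, 7, 14, 4, 10, 18, 12, 20, 8, 25, 16, 29, 11, 31, 13, 21, 36, 38, 40, 15, 43, 44, 28, 17, 48, 19, 32, 50, 51, 52, 22, 46, 23, 39, 24, 41, 60, 26, 27, 45, 37, 66, 30, 67, 33, 34, 35, 53, 54, 55, 56, 75, 58, 64, 42, 76, 62, 63, 59, 65, 47, 49, 68, 80, 70, 83, 72, 84, 88, 57, 61, 77, 78, 79, 69, 92, 94, 71, 73, 95, 87, 86, 74, 89, 90, 97, 81, 93, 82, 85, 96, 91, 98, 99]]

/-- generators -/
def gens0 : List (List ℕ) := [[1],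
    [3],
    [4],
    [5, 3, 5],
    [5, 4, 5]]

/-- base -/
def base0 : ℕ := 0

/-- orbit words -/
def orbit0 : List (List ℕ) := [[],
    [0],
    [1],
    [3, 2],
    [0, 1],
    [0, 3, 2],
    [1, 4, 1],
    [3],
    [0, 2],
    [0, 1, 4, 1],
    [0, 3],
    [4, 0],
    [3, 0],
    [3, 1],
    [0, 2, 0],
    [0, 4, 2, 4],
    [0, 3, 0],
    [0, 3, 1],
    [4],
    [3, 0, 1],
    [3, 3],
    [1, 4],
    [0, 2, 0, 1],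
    [0, 4, 4, 2],
    [0, 4, 0, 4],
    [0, 1, 3],
    [4, 2, 0],
    [0, 1, 4, 4],
    [0, 3, 1, 1],
    [0, 3, 3],
    [4, 1],
    [3, 0, 3],
    [1, 4, 0],
    [3, 3, 1],
    [0, 2, 4],
    [0, 4, 0, 3],
    [0, 2, 3],
    [0, 4, 4],
    [0, 1, 3, 0],
    [4, 2, 4, 0],
    [0, 1, 3, 3],
    [0, 4, 2],
    [4, 2],
    [0, 3, 0, 3],
    [0, 1, 4, 2],
    [4, 1, 3],
    [0, 1, 3, 0, 3],
    [4, 1, 0],
    [4, 0, 3],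
    [0, 1, 3, 2],
    [3, 1, 3],
    [0, 2, 0, 2],
    [0, 2, 3, 3],
    [0, 2, 3, 3, 3],
    [0, 4, 4, 1],
    [0, 1, 3, 0, 1],
    [4, 2, 4],
    [0, 1, 3, 3, 1],
    [0, 4, 2, 0],
    [0, 4],
    [4, 0, 4],
    [0, 4, 1, 0],
    [0, 1, 4],
    [4, 1, 3, 1],
    [0, 3, 2, 2],
    [0, 1, 4, 0],
    [4, 0, 3, 0],
    [3, 0, 1, 3],
    [3, 1, 3, 1],
    [0, 2, 3, 3, 1],
    [0, 2, 3, 3, 3, 0],
    [0, 1, 3, 0, 4],
    [0, 4, 2, 0, 1],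
    [0, 4, 4, 1, 1],
    [0, 1, 3, 0, 1, 1],
    [0, 4, 0],
    [0, 4, 1],
    [0, 4, 1, 3],
    [4, 2, 4, 2],
    [3, 1, 3, 2],
    [0, 4, 0, 3, 3],
    [0, 1, 3, 3, 2, 2],
    [0, 4, 4, 1, 1, 4],
    [0, 2, 4, 4],
    [0, 4, 4, 1, 3],
    [0, 2, 4, 4, 2],
    [0, 4, 0, 2, 4],
    [0, 4, 0, 2, 2],
    [0, 1, 3, 0, 1, 3],
    [0, 1, 3, 2, 4],
    [0, 4, 0, 2],
    [0, 4, 0, 3, 3, 1],
    [0, 1, 3, 3, 2, 4],
    [0, 1, 3, 3, 2],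
    [0, 4, 4, 1, 3, 2],
    [0, 1, 3, 0, 4, 4],
    [0, 4, 0, 2, 2, 4],
    [0, 2, 3, 3, 1, 3],
    [0, 4, 2, 0, 2],
    [0, 4, 0, 2, 2, 4, 0]]

/-- generators -/
def gens1 : List (List ℕ) := [[2, 2],
    [1, 0, 2, 0],
    [0, 1, 1, 1, 0],
    [1, 3, 3],
    [1, 1],
    [0, 1, 0, 2],
    [0, 2, 2, 2, 0],
    [4, 4, 2]]

/-- base -/
def base1 : ℕ := 2

/-- orbit words -/
def orbit1 : List (List ℕ) := [[],
    [1, 0, 3, 1],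
    [5, 2, 3],
    [3, 2, 7, 4],
    [7, 7, 5],
    [5, 3],
    [1, 7, 4],
    [1, 4, 3, 1],
    [7, 1],
    [3, 2, 7],
    [1],
    [1, 4, 7],
    [1, 3, 5],
    [3, 2],
    [3, 5],
    [3],
    [1, 0, 3, 5],
    [5, 4],
    [5, 2, 7],
    [7, 5, 7],
    [5, 0, 7],
    [1, 0, 2, 3, 3],
    [1, 7, 0],
    [3, 2, 0],
    [3, 3, 5],
    [3, 5, 0],
    [7],
    [1, 4, 3],
    [1, 4],
    [1, 0, 3, 2],
    [7, 5, 2],
    [1, 3, 1],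
    [3, 1, 3],
    [1, 0, 1],
    [5, 3, 0],
    [3, 2, 0, 3],
    [3, 5, 7],
    [3, 2, 3, 0],
    [7, 5, 3],
    [7, 7],
    [5],
    [5, 0],
    [3, 2, 3, 4],
    [1, 4, 3, 5],
    [3, 5, 2],
    [3, 1, 7],
    [3, 3, 2],
    [7, 5],
    [5, 2],
    [3, 2, 3],
    [1, 7],
    [1, 0, 3],
    [1, 3],
    [3, 3, 4],
    [1, 4, 2, 3],
    [1, 0],
    [1, 0, 2],
    [3, 5, 2, 7],
    [1, 3, 2, 0],
    [7, 1, 7],
    [3, 1, 3, 1],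
    [3, 3],
    [1, 3, 2, 3],
    [1, 4, 3, 2],
    [1, 0, 7, 0],
    [1, 3, 2, 7],
    [3, 2, 3, 1],
    [3, 1],
    [1, 3, 2],
    [1, 0, 2, 4],
    [1, 7, 2],
    [1, 0, 2, 3],
    [1, 0, 7],
    [5, 0, 1],
    [3, 2, 3, 5],
    [1, 4, 2, 7],
    [1, 4, 2]]

/-- generators -/
def gens2 : List (List ℕ) := [[0],
    [2],
    [1, 2, 5],
    [3, 0, 7],
    [5, 7, 7, 5],
    [4],
    [6],
    [1, 6, 5],
    [3, 4, 7],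
    [1, 3, 3, 1]]

/-- base -/
def base2 : ℕ := 3

/-- orbit words -/
def orbit2 : List (List ℕ) := [[],
    [0, 9, 5],
    [0],
    [4, 0, 4],
    [9, 3, 1],
    [0, 1, 9],
    [0, 3, 2],
    [9, 3],
    [5],
    [4, 0],
    [5, 1, 9],
    [0, 9, 0],
    [1, 3],
    [9, 0, 4],
    [1, 3, 1],
    [1, 4, 4],
    [1, 4, 0],
    [9, 8],
    [0, 4, 1],
    [4, 2, 3],
    [0, 8],
    [4, 3],
    [0, 9, 3],
    [3, 2],
    [4],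
    [3, 9, 3],
    [9, 5],
    [3],
    [0, 3, 4],
    [1],
    [0, 9],
    [0, 3],
    [9],
    [5, 1],
    [3, 9],
    [1, 4],
    [0, 1],
    [1, 4, 2],
    [1, 9],
    [8],
    [1, 4, 8],
    [1, 2],
    [4, 2, 1],
    [0, 1, 2],
    [4, 5],
    [1, 3, 9],
    [9, 0],
    [1, 5],
    [8, 1],
    [0, 9, 1],
    [0, 9, 2],
    [9, 2],
    [0, 4],
    [0, 4, 3],
    [4, 2],
    [0, 1, 4],
    [3, 4],
    [0, 4, 0],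
    [3, 4, 3],
    [4, 1]]

/-- generators -/
def gens3 : List (List ℕ) := [[2],
    [0, 2, 5],
    [1, 0, 3],
    [4, 0, 1, 5, 9],
    [7],
    [0, 7, 5],
    [8, 5, 6],
    [4, 0, 6, 5, 9]]

/-- base -/
def base3 : ℕ := 7

/-- orbit words -/
def orbit3 : List (List ℕ) := [[],
    [6, 3, 0],
    [6],
    [0, 1, 3, 2],
    [1, 3],
    [0, 6],
    [0, 3, 0],
    [2],
    [3, 1],
    [0, 3, 6],
    [0, 6, 0],
    [3],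
    [0, 6, 3],
    [0, 3, 6, 3],
    [6, 3],
    [0, 6, 1],
    [0, 1],
    [6, 0],
    [6, 0, 1],
    [2, 0, 1],
    [3, 0],
    [6, 1],
    [6, 0, 3],
    [1],
    [0, 3],
    [2, 1],
    [3, 6],
    [2, 0],
    [0],
    [2, 3],
    [0, 1, 3],
    [2, 3, 2]]

/-- generators -/
def gens4 : List (List ℕ) := [[0, 2, 5],
    [1, 6, 4]]

/-- base -/
def base4 : ℕ := 1

/-- orbit words -/
def orbit4 : List (List ℕ) := [[],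
    [1],
    [0]]

/-- a suborbit -/
def twentyTwo : List ℕ := [1, 4, 8, 16, 23, 29, 36, 40, 43, 47, 52, 54, 55, 67, 70, 75, 77, 81, 82, 85, 87, 99]

/-- words from the first point of the suborbit -/
def twentyTwoWords : List (List ℕ) := [[],
    [0],
    [4],
    [3, 2],
    [7],
    [0, 7],
    [0, 1],
    [3],
    [3, 3, 2],
    [0, 1, 4],
    [0, 3],
    [7, 4],
    [3, 3],
    [3, 2, 7],
    [4, 2],
    [3, 0, 3],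
    [3, 2, 3],
    [3, 0],
    [0, 3, 5],
    [4, 7],
    [7, 7],
    [3, 3, 1]]

/-- a suborbit -/
def seventySeven : List ℕ := [2, 3, 5, 6, 7, 9, 10, 11, 12, 13, 14, 15, 17, 18, 19, 20, 21, 22, 24, 25, 26, 27, 28, 30, 31, 32, 33, 34, 35, 37, 38, 39, 41, 42, 44, 45, 46, 48, 49, 50, 51, 53, 56, 57, 58, 59, 60, 61, 62, 63, 64, 65, 66, 68, 69, 71, 72, 73, 74, 76, 78, 79, 80, 83, 84, 86, 88, 89, 90, 91, 92, 93, 94, 95, 96, 97, 98]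

/-- words from the first point of the suborbit -/
def seventySevenWords : List (List ℕ) := [[],
    [1, 0, 3, 1],
    [5, 2, 3],
    [3, 2, 7, 4],
    [7, 7, 5],
    [5, 3],
    [1, 7, 4],
    [1, 4, 3, 1],
    [7, 1],
    [3, 2, 7],
    [1],
    [1, 4, 7],
    [1, 3, 5],
    [3, 2],
    [3, 5],
    [3],
    [1, 0, 3, 5],
    [5, 4],
    [5, 2, 7],
    [7, 5, 7],
    [5, 0, 7],
    [1, 0, 2, 3, 3],
    [1, 7, 0],
    [3, 2, 0],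
    [3, 3, 5],
    [3, 5, 0],
    [7],
    [1, 4, 3],
    [1, 4],
    [1, 0, 3, 2],
    [7, 5, 2],
    [1, 3, 1],
    [3, 1, 3],
    [1, 0, 1],
    [5, 3, 0],
    [3, 2, 0, 3],
    [3, 5, 7],
    [3, 2, 3, 0],
    [7, 5, 3],
    [7, 7],
    [5],
    [5, 0],
    [3, 2, 3, 4],
    [1, 4, 3, 5],
    [3, 5, 2],
    [3, 1, 7],
    [3, 3, 2],
    [7, 5],
    [5, 2],
    [3, 2, 3],
    [1, 7],
    [1, 0, 3],
    [1, 3],
    [3, 3, 4],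
    [1, 4, 2, 3],
    [1, 0],
    [1, 0, 2],
    [3, 5, 2, 7],
    [1, 3, 2, 0],
    [7, 1, 7],
    [3, 1, 3, 1],
    [3, 3],
    [1, 3, 2, 3],
    [1, 4, 3, 2],
    [1, 0, 7, 0],
    [1, 3, 2, 7],
    [3, 2, 3, 1],
    [3, 1],
    [1, 3, 2],
    [1, 0, 2, 4],
    [1, 7, 2],
    [1, 0, 2, 3],
    [1, 0, 7],
    [5, 0, 1],
    [3, 2, 3, 5],
    [1, 4, 2, 7],
    [1, 4, 2]]

end Cfsg.Agent.HNBound.Hundred
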