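import Cfsg.Agent.CosetEnum.Bound

/-! Machine-generated orbit words. -/

set_option maxRecDepth 100000

namespace Cfsg.Agent.HNBound

/-- words reaching all points -/
def topWords : List (List ℕ) := [[],
    [5],
    [5, 4],
    [5, 4, 1],
    [5, 3, 1, 3],
    [5, 3, 1],
    [5, 4, 4],
    [5, 3, 3, 3],
    [5, 3, 3, 3, 1],
    [5, 3, 3, 3, 1, 4],
    [5, 3, 3, 3, 1, 4, 1],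
    [5, 3, 3, 3, 1, 4, 1, 4],
    [5, 3, 3, 3, 1, 3, 1, 3],
    [5, 3, 5, 4, 5, 4, 4, 1],
    [5, 3, 5, 4, 5, 4, 4],
    [5, 3, 5, 4, 5, 4],
    [5, 3, 5, 4, 5, 4, 1],
    [5, 3, 5, 3, 1, 4, 5],
    [5, 3, 1, 5, 3, 1, 5],
    [5, 4, 1, 5, 4, 1],
    [5, 4, 5, 3, 3, 1],
    [5, 4, 4, 5, 3, 1],
    [5, 4, 1, 5, 4],
    [5, 4, 1, 5, 4, 4],
    [5, 4, 1, 5, 4, 4, 1],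
    [5, 4, 1, 5, 4, 4, 1, 4],
    [5, 3, 1, 5, 3, 3, 1, 3],
    [5, 3, 3, 3, 1, 5, 4, 1],
    [5, 3, 3, 3, 1, 5, 4],
    [5, 3, 3, 3, 1, 5],
    [5, 3, 3, 3, 5],
    [5, 3, 3, 3, 5, 3],
    [5, 3, 1, 3, 5, 4],
    [5, 3, 1, 3, 5],
    [5, 3],
    [5, 3, 3],
    [5, 3, 3, 3, 1, 3],
    [5, 3, 3, 3, 1, 4, 1, 3],
    [5, 3, 3, 3, 1, 3, 1, 4, 1],
    [5, 4, 4, 1, 4, 1, 3, 1],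
    [5, 4, 4, 1, 4, 1, 3],
    [5, 3, 3, 1, 3, 1, 4],
    [5, 3, 3, 1, 3, 1],
    [5, 3, 3, 1, 3],
    [5, 3, 3, 1, 3, 3],
    [5, 4, 4, 1, 4],
    [5, 4, 4, 1],
    [5, 3, 3, 3, 1, 3, 1],
    [5, 3, 3, 1, 3, 1, 4, 1],
    [5, 3, 3, 1],
    [5, 3, 3, 1, 3, 3, 1],
    [5, 3, 3, 1, 3, 1, 3],
    [5, 4, 4, 1, 4, 1, 4],
    [5, 4, 4, 1, 4, 1],
    [5, 4, 5],
    [5, 4, 1, 5],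
    [5, 3, 3, 1, 4],
    [5, 3, 3, 3, 1, 3, 5],
    [5, 3, 5, 3, 3, 1],
    [5, 3, 5, 3, 3],
    [5, 3, 5, 3],
    [5, 3, 5, 3, 1],
    [5, 3, 5, 3, 1, 4],
    [5, 4, 5, 4, 1],
    [5, 4, 5, 4],
    [5, 4, 4, 1, 4, 5],
    [5, 4, 4, 1, 4, 5, 4],
    [5, 3, 5, 3, 5, 3, 3, 5],
    [5, 3, 5, 3, 3, 3, 1, 3, 3],
    [5, 3, 3, 3, 1, 5, 4, 1, 3],
    [5, 3, 3, 3, 1, 5, 3],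
    [5, 3, 3, 3, 1, 5, 3, 1],
    [5, 3, 3, 3, 1, 5, 4, 5],
    [5, 3, 3, 3, 1, 5, 4, 5, 4],
    [5, 3, 3, 3, 1, 5, 4, 5, 4, 4],
    [5, 3, 1, 5, 3, 3, 1, 4, 1, 5],
    [5, 3, 1, 5, 3, 3, 1, 4, 5],
    [5, 3, 1, 5, 3, 3, 5, 3],
    [5, 3, 1, 5, 3, 3, 5],
    [5, 3, 1, 5, 3, 3, 1, 5],
    [5, 3, 1, 5, 3, 3, 1, 5, 3],
    [5, 3, 3, 3, 1, 5, 4, 5, 3],
    [5, 3, 3, 5, 4, 5, 4, 4],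
    [5, 3, 3, 5, 4, 5, 4],
    [5, 3, 3, 5, 4, 5],
    [5, 3, 3, 5, 4, 5, 3],
    [5, 4, 5, 3, 3],
    [5, 4, 5, 3],
    [5, 3, 3, 1, 3, 1, 3, 1],
    [5, 4, 4, 1, 4, 1, 4, 1],
    [5, 3, 3, 1, 3, 5],
    [5, 3, 3, 1, 3, 5, 4],
    [5, 4, 5, 3, 3, 3],
    [5, 3, 1, 5],
    [5, 3, 1, 5, 3, 3, 1],
    [5, 3, 1, 5, 3, 3],
    [5, 4, 1, 5, 4, 4, 1, 3],
    [5, 3, 5, 3, 5, 3, 5, 3, 3],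
    [5, 4, 5, 4, 4, 5, 4, 4, 5],
    [5, 3, 5, 3, 5, 3, 5, 4, 4],
    [5, 3, 5, 3, 5, 3, 5, 4],
    [5, 3, 5, 3, 3, 3, 1, 5, 3],
    [5, 3, 5, 3, 3, 3, 1, 5],
    [5, 3, 3, 3, 5, 3, 5, 4, 1],
    [5, 3, 5, 3, 5, 3, 1, 4],
    [5, 4, 1, 5, 4, 4, 5],
    [5, 4, 1, 5, 4, 4, 1, 5],
    [5, 3, 3, 3, 1, 5, 3, 1, 5],
    [5, 3, 3, 3, 1, 5, 3, 5],
    [5, 3, 3, 3, 1, 5, 3, 5, 3],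
    [5, 3, 3, 3, 1, 5, 3, 5, 3, 3],
    [5, 3, 5, 3, 1, 3, 5, 4, 4],
    [5, 3, 5, 3, 1, 3, 5, 4],
    [5, 3, 5, 3, 1, 3, 5],
    [5, 4, 5, 4, 1, 4, 5],
    [5, 4, 5, 4, 1, 4],
    [5, 3, 5, 3, 1, 3, 3],
    [5, 3, 5, 3, 1, 3],
    [5, 3, 5],
    [5, 3, 3, 3, 5, 4],
    [5, 3, 1, 3, 5, 3],
    [5, 3, 1, 5, 3, 5, 3, 1],
    [5, 4, 4, 1, 4, 1, 5],
    [5, 4, 4, 1, 4, 1, 5, 4],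
    [5, 4, 5, 3, 3, 5, 3, 3, 5],
    [5, 3, 5, 3, 5, 3, 3, 1, 5],
    [5, 3, 3, 1, 4, 5, 4],
    [5, 3, 3, 1, 4, 5],
    [5, 3, 3, 1, 4, 5, 3],
    [5, 3, 3, 1, 4, 5, 3, 3],
    [5, 4, 5, 4, 5, 4, 1],
    [5, 3, 3, 5, 3, 1, 4, 5],
    [5, 3, 3, 3, 5, 3, 5, 4],
    [5, 3, 3, 3, 5, 3, 5],
    [5, 3, 5, 3, 5, 4],
    [5, 3, 5, 3, 5],
    [5, 3, 5, 4],
    [5, 3, 5, 4, 4],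
    [5, 3, 5, 4, 4, 1],
    [5, 3, 1, 5, 3, 1],
    [5, 3, 1, 5, 3],
    [5, 4, 4, 5],
    [5, 4, 4, 1, 5],
    [5, 3, 3, 1, 3, 1, 4, 1, 3],
    [5, 3, 3, 3, 1, 3, 1, 4],
    [5, 3, 3, 3, 1, 3, 1, 4, 5],
    [5, 3, 3, 1, 3, 1, 4, 1, 3, 5],
    [5, 3, 3, 3, 1, 4, 1, 3, 5],
    [5, 3, 3, 5, 3, 1, 4, 1],
    [5, 3, 3, 5, 3, 1, 4],
    [5, 3, 3, 5, 3, 1, 3],
    [5, 3, 3, 5, 3, 1],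
    [5, 3, 3, 5, 3],
    [5, 4, 5, 4, 4],
    [5, 3, 3, 1, 3, 5, 4, 4],
    [5, 3, 5, 3, 5, 3, 5, 3],
    [5, 3, 5, 3, 5, 3, 5],
    [5, 3, 3, 1, 4, 5, 4, 4],
    [5, 3, 5, 3, 5, 3, 3],
    [5, 3, 5, 3, 5, 3],
    [5, 3, 5, 3, 5, 3, 1],
    [5, 3, 5, 3, 3, 3, 5],
    [5, 4, 5, 3, 3, 3, 5],
    [5, 3, 3, 1, 3, 5, 4, 5],
    [5, 3, 3, 1, 3, 5, 4, 5, 3],
    [5, 3, 3, 3, 5, 4, 5, 3],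
    [5, 4, 5, 4, 5, 4, 4],
    [5, 4, 5, 4, 5, 4],
    [5, 4, 5, 4, 5],
    [5, 4, 4, 5, 3],
    [5, 4, 4, 1, 4, 5, 4, 1],
    [5, 3, 3, 1, 3, 5, 3, 1, 3],
    [5, 3, 3, 1, 4, 5, 3, 3, 3],
    [5, 3, 3, 3, 1, 3, 1, 4, 1, 5],
    [5, 3, 5, 4, 5, 4, 4, 5],
    [5, 3, 3, 3, 1, 3, 1, 5, 3],
    [5, 3, 3, 3, 1, 3, 1, 5],
    [5, 3, 5, 3, 3, 3],
    [5, 3, 5, 3, 3, 3, 1],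
    [5, 3, 5, 3, 3, 3, 1, 3],
    [5, 3, 3, 1, 3, 1, 4, 5],
    [5, 4, 5, 4, 5, 4, 5],
    [5, 4, 5, 4, 5, 4, 5, 3],
    [5, 4, 5, 4, 5, 4, 5, 3, 3],
    [5, 3, 5, 4, 4, 5, 4, 1, 3],
    [5, 3, 5, 4, 4, 5, 4, 1],
    [5, 3, 5, 3, 1, 3, 1, 5],
    [5, 3, 5, 3, 1, 3, 1, 5, 4],
    [5, 3, 5, 3, 3, 1, 5, 4],
    [5, 4, 5, 4, 4, 1, 5],
    [5, 4, 5, 4, 4, 5],
    [5, 4, 5, 4, 4, 5, 3],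
    [5, 3, 3, 5, 3, 1, 5, 4],
    [5, 3, 3, 5, 3, 1, 5],
    [5, 3, 3, 5, 3, 5],
    [5, 3, 3, 5, 3, 5, 3],
    [5, 3, 3, 3, 1, 4, 5],
    [5, 3, 3, 3, 1, 4, 5, 4],
    [5, 3, 3, 3, 1, 4, 5, 4, 4],
    [5, 3, 1, 5, 3, 3, 1, 4, 4],
    [5, 3, 3, 1, 3, 3, 5],
    [5, 3, 3, 1, 5, 3],
    [5, 3, 3, 1, 5],
    [5, 3, 3, 1, 5, 4],
    [5, 4, 5, 4, 4, 1],
    [5, 4, 5, 4, 4, 1, 3],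
    [5, 3, 3, 1, 3, 1, 5, 4],
    [5, 3, 3, 1, 3, 1, 5],
    [5, 3, 3, 1, 3, 5, 3],
    [5, 3, 3, 1, 3, 5, 3, 3],
    [5, 3, 3, 1, 3, 5, 3, 3, 3],
    [5, 4, 5, 4, 4, 5, 3, 3],
    [5, 4, 5, 4, 4, 5, 4],
    [5, 4, 5, 4, 4, 5, 4, 1],
    [5, 3, 5, 3, 3, 5, 3, 1],
    [5, 3, 5, 3, 3, 5, 3],
    [5, 3, 5, 3, 3, 5],
    [5, 3, 5, 3, 3, 1, 5],
    [5, 3, 3, 5, 3, 5, 4],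
    [5, 4, 5, 4, 4, 5, 3, 3, 3],
    [5, 3, 5, 4, 5],
    [5, 4, 5, 3, 5],
    [5, 3, 1, 5, 3, 5],
    [5, 3, 1, 5, 3, 5, 3],
    [5, 3, 3, 3, 1, 4, 1, 5],
    [5, 3, 1, 5, 3, 3, 1, 4],
    [5, 4, 5, 4, 4, 1, 3, 3],
    [5, 3, 3, 3, 1, 4, 1, 5, 3],
    [5, 3, 3, 1, 5, 3, 1],
    [5, 3, 3, 1, 5, 3, 1, 4],
    [5, 3, 3, 1, 5, 3, 1, 4, 1],
    [5, 3, 1, 5, 3, 5, 3, 5, 3],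
    [5, 3, 1, 5, 3, 5, 3, 5],
    [5, 3, 1, 5, 3, 5, 3, 1, 5],
    [5, 3, 3, 3, 1, 5, 3, 1, 4],
    [5, 4, 1, 5, 4, 4, 1, 3, 3],
    [5, 3, 3, 3, 1, 3, 5, 3, 3],
    [5, 3, 3, 3, 1, 3, 5, 3],
    [5, 3, 3, 1, 5, 4, 5],
    [5, 3, 3, 5, 4, 4, 5],
    [5, 3, 3, 5, 4, 4],
    [5, 3, 5, 3, 1, 3, 1, 4, 1],
    [5, 3, 5, 3, 1, 3, 1, 4],
    [5, 3, 5, 3, 1, 3, 1],
    [5, 4, 5, 4, 1, 5],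
    [5, 4, 5, 4, 1, 5, 4],
    [5, 4, 5, 3, 3, 5, 3, 3],
    [5, 4, 5, 3, 3, 5, 3],
    [5, 3, 5, 4, 5, 4, 4, 5, 4],
    [5, 4, 4, 1, 5, 4],
    [5, 3, 3, 3, 1, 3, 1, 5, 4],
    [5, 3, 5, 3, 3, 1, 4, 4],
    [5, 3, 3, 1, 3, 3, 1, 5],
    [5, 3, 5, 3, 1, 3, 3, 1],
    [5, 3, 3, 1, 3, 1, 3, 5],
    [5, 3, 3, 1, 3, 1, 3, 1, 5],
    [5, 4, 5, 4, 1, 4, 1, 4, 1],
    [5, 4, 5, 4, 1, 4, 1, 4],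
    [5, 4, 5, 4, 1, 4, 1],
    [5, 3, 5, 4, 4, 5, 4, 5],
    [5, 4, 5, 3, 3, 5],
    [5, 3, 1, 3, 5, 4, 5],
    [5, 3, 3, 5, 3, 1, 4, 1, 5],
    [5, 3, 3, 3, 1, 5, 4, 5, 3, 3],
    [5, 4, 5, 4, 4, 5, 4, 4],
    [5, 3, 5, 3, 3, 5, 3, 1, 5],
    [5, 3, 3, 1, 5, 3, 5],
    [5, 3, 3, 1, 5, 3, 5, 4],
    [5, 4, 5, 4, 1, 5, 4, 1],
    [5, 4, 5, 4, 1, 5, 4, 1, 4],
    [5, 3, 3, 1, 5, 3, 5, 3, 3],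
    [5, 3, 3, 1, 5, 3, 5, 3],
    [5, 3, 3, 1, 5, 3, 5, 3, 1],
    [5, 4, 5, 4, 1, 4, 1, 5],
    [5, 3, 3, 5],
    [5, 3, 3, 5, 4],
    [5, 3, 3, 1, 5, 3, 1, 3],
    [5, 3, 3, 1, 5, 3, 1, 3, 1],
    [5, 4, 4, 1, 4, 1, 5, 4, 1],
    [5, 3, 5, 3, 3, 1, 4, 1],
    [5, 3, 5, 3, 3, 1, 4, 1, 3],
    [5, 3, 5, 3, 5, 3, 3, 1],
    [5, 4, 4, 1, 5, 4, 5],
    [5, 4, 4, 1, 5, 4, 1, 5],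
    [5, 3, 3, 5, 3, 1, 3, 5, 3, 1],
    [5, 3, 3, 3, 1, 3, 5, 3, 3, 5],
    [5, 3, 3, 5, 3, 1, 3, 1],
    [5, 3, 3, 5, 4, 1],
    [5, 3, 5, 4, 4, 5, 4, 1, 5],
    [5, 3, 1, 5, 3, 3, 5, 4],
    [5, 3, 3, 5, 4, 5, 3, 3],
    [5, 3, 5, 4, 4, 1, 5, 4],
    [5, 3, 3, 5, 3, 1, 3, 1, 5],
    [5, 3, 3, 5, 3, 1, 3, 5],
    [5, 3, 3, 5, 3, 1, 3, 5, 3],
    [5, 3, 5, 3, 3, 5, 3, 3, 3],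
    [5, 3, 5, 3, 3, 5, 4, 4],
    [5, 3, 5, 3, 3, 5, 4],
    [5, 3, 3, 1, 3, 1, 5, 3],
    [5, 3, 3, 1, 3, 1, 5, 3, 3],
    [5, 3, 3, 1, 3, 5, 3, 3, 1],
    [5, 3, 3, 1, 3, 1, 5, 4, 4],
    [5, 3, 3, 3, 5, 4, 5, 3, 5],
    [5, 3, 1, 5, 3, 3, 5, 4, 1],
    [5, 3, 3, 3, 5, 4, 5],
    [5, 4, 5, 4, 5, 3],
    [5, 3, 3, 5, 3, 5, 4, 5],
    [5, 3, 1, 5, 3, 3, 1, 4, 1],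
    [5, 3, 5, 3, 1, 5, 3],
    [5, 3, 5, 3, 1, 5],
    [5, 3, 1, 3, 5, 3, 5],
    [5, 3, 5, 4, 4, 5],
    [5, 3, 5, 4, 4, 1, 5],
    [5, 3, 3, 1, 3, 1, 5, 3, 1],
    [5, 4, 4, 1, 5, 4, 1, 4, 1],
    [5, 4, 4, 1, 5, 4, 1, 4],
    [5, 4, 4, 1, 5, 4, 1],
    [5, 4, 4, 5, 3, 5],
    [5, 3, 3, 5, 3, 1, 5, 3, 3],
    [5, 3, 5, 3, 1, 3, 3, 1, 5],
    [5, 3, 5, 3, 1, 3, 3, 5],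
    [5, 3, 5, 3, 1, 3, 3, 5, 3],
    [5, 4, 4, 1, 5, 4, 5, 4],
    [5, 3, 5, 3, 1, 5, 3, 1],
    [5, 3, 3, 1, 3, 5, 3, 1],
    [5, 3, 3, 3, 5, 3, 5, 4, 5],
    [5, 3, 3, 5, 3, 5, 3, 5],
    [5, 4, 4, 1, 5, 4, 5, 4, 4],
    [5, 3, 3, 1, 5, 3, 1, 3, 5],
    [5, 4, 1, 5, 4, 4, 5, 4],
    [5, 3, 3, 1, 5, 3, 1, 5],
    [5, 3, 5, 3, 5, 3, 5, 4, 4, 1],
    [5, 4, 5, 4, 5, 4, 5, 3, 3, 1],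
    [5, 3, 5, 3, 3, 5, 3, 3, 5],
    [5, 3, 5, 3, 3, 1, 4],
    [5, 3, 3, 5, 3, 1, 5, 3, 3, 5],
    [5, 3, 1, 5, 3, 3, 5, 4, 5, 4],
    [5, 3, 1, 5, 3, 3, 5, 4, 5],
    [5, 3, 5, 4, 4, 1, 5, 4, 5],
    [5, 3, 3, 5, 4, 5, 3, 3, 5],
    [5, 3, 5, 3, 5, 3, 1, 4, 5],
    [5, 3, 3, 5, 3, 1, 5, 3],
    [5, 4, 5, 3, 3, 3, 5, 3],
    [5, 3, 5, 3, 3, 5, 3, 3],
    [5, 4, 4, 5, 3, 5, 3],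
    [5, 3, 3, 3, 1, 5, 3, 5, 4],
    [5, 4, 4, 5, 3, 5, 3, 3],
    [5, 3, 5, 3, 1, 5, 3, 3],
    [5, 3, 5, 3, 3, 5, 3, 5],
    [5, 3, 5, 4, 4, 5, 4],
    [5, 3, 5, 3, 3, 3, 5, 4],
    [5, 3, 3, 5, 3, 1, 5, 4, 4]]

/-- generators -/
def gens0 : List (List ℕ) := [[1],
    [3],
    [4]]

/-- base point -/
def base0 : ℕ := 19

/-- orbit words -/
def orbit0 : List (List ℕ) := [[],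
    [2],
    [1],
    [0],
    [0, 2],
    [0, 2, 0],
    [0, 2, 0, 2],
    [0, 2, 0, 2, 0],
    [0, 2, 0, 2, 0, 1],
    [0, 2, 0, 2, 0, 1, 0],
    [0, 2, 0, 2, 2, 0, 2],
    [0, 2, 0, 2, 2, 0, 2, 0],
    [0, 2, 0, 2, 2, 0, 2, 0, 1],
    [0, 2, 0, 2, 2, 0, 2, 0, 1, 1],
    [0, 2, 0, 2, 2, 0, 2, 0, 1, 1, 1],
    [0, 1, 0],
    [0, 1],
    [0, 1, 1, 0, 1, 1, 0, 1],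
    [0, 1, 1, 0, 1, 1, 0],
    [0, 1, 1, 0, 1, 1],
    [0, 1, 1, 0, 1],
    [0, 1, 1, 0, 1, 0],
    [0, 1, 0, 2, 0, 1],
    [0, 1, 0, 2, 0],
    [0, 1, 0, 2],
    [0, 1, 1, 0, 1, 1, 1, 0, 2],
    [2, 0, 1, 0, 1, 1, 0, 2, 0],
    [0, 2, 0, 2, 0, 1, 1, 0, 1],
    [0, 2, 0, 2, 0, 1, 1, 0],
    [0, 2, 0, 2, 0, 1, 1],
    [0, 2, 0, 2, 2, 0],
    [0, 2, 0, 2, 2],
    [2, 0],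
    [2, 0, 2],
    [2, 0, 1, 0, 1],
    [2, 0, 1, 0],
    [2, 0, 1],
    [0, 1, 1],
    [0, 2, 2, 0],
    [0, 2, 2],
    [0, 2, 0, 1],
    [0, 2, 0, 1, 0],
    [0, 2, 0, 1, 0, 1],
    [0, 2, 0, 1, 0, 1, 1],
    [0, 2, 0, 1, 0, 1, 1, 1],
    [0, 1, 0, 2, 0, 2],
    [0, 1, 0, 2, 0, 2, 2],
    [0, 1, 1, 0, 1, 0, 1],
    [0, 1, 1, 0],
    [0, 2, 0, 2, 2, 0, 2, 0, 2],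
    [0, 2, 0, 2, 2, 0, 2, 0, 2, 2],
    [0, 1, 1, 0, 1, 1, 0, 2, 0, 2],
    [2, 0, 1, 0, 1, 0, 1, 0, 2, 0],
    [0, 2, 0, 1, 0, 1, 1, 1, 0, 1, 0],
    [0, 2, 0, 2, 0, 1, 1, 0, 1, 0],
    [0, 2, 0, 1, 0, 2, 2, 0, 1],
    [0, 2, 0, 1, 0, 2, 2, 0, 1, 1],
    [0, 2, 0, 2, 2, 0, 2, 0, 2, 0],
    [0, 2, 2, 0, 2, 0, 1, 1, 0],
    [0, 1, 1, 0, 2],
    [0, 1, 1, 0, 2, 2],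
    [0, 1, 1, 1, 0, 1],
    [0, 1, 1, 1, 0],
    [0, 1, 1, 1],
    [1, 0, 2],
    [1, 0, 2, 0],
    [1, 0, 2, 2, 0, 1, 0, 2],
    [1, 0, 2, 2, 0, 1, 0, 2, 2],
    [1, 0, 2, 2, 0, 2, 0, 1],
    [1, 0, 2, 2, 0, 2, 0],
    [1, 0, 2, 2, 0, 2],
    [1, 0, 2, 2, 0, 1],
    [1, 0, 2, 2, 0],
    [1, 0, 2, 2],
    [2, 0, 1, 1],
    [2, 0, 1, 0, 2],
    [0, 2, 0, 1, 0, 2],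
    [0, 2, 0, 1, 0, 2, 2],
    [0, 2, 0, 1, 0, 2, 2, 0],
    [1, 0],
    [2, 0, 1, 0, 1, 1, 0, 2],
    [2, 0, 1, 0, 1, 1, 0, 1],
    [0, 2, 0, 1, 0, 2, 2, 0, 2],
    [1, 0, 2, 0, 2, 0, 1, 0, 2],
    [1, 0, 2, 2, 0, 2, 0, 2],
    [1, 0, 2, 2, 0, 2, 0, 2, 0],
    [0, 1, 1, 0, 1, 1, 0, 1, 0],
    [0, 1, 1, 0, 1, 1, 1],
    [0, 1, 1, 0, 1, 1, 1, 0],
    [0, 2, 2, 0, 2, 0, 1, 0],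
    [0, 2, 2, 0, 2, 0, 1],
    [0, 2, 2, 0, 2, 0, 1, 1],
    [0, 2, 2, 0, 2, 0, 1, 1, 1],
    [0, 2, 2, 0, 2, 0, 2, 2],
    [2, 0, 1, 1, 0, 2],
    [2, 0, 1, 1, 0, 2, 2],
    [0, 2, 2, 0, 2, 2, 0],
    [0, 2, 2, 0, 2, 2],
    [1, 0, 2, 0, 2, 2],
    [1, 0, 1, 1, 1, 0, 1],
    [1, 0, 1, 1, 1, 0],
    [1, 0, 2, 0, 1],
    [2, 0, 1, 1, 0],
    [2, 0, 1, 1, 0, 1],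
    [2, 0, 1, 0, 1, 0, 2],
    [2, 0, 1, 0, 1, 0],
    [2, 0, 1, 0, 1, 1],
    [2, 0, 1, 0, 1, 1, 1],
    [2, 0, 1, 0, 2, 2],
    [2, 0, 1, 1, 0, 2, 0],
    [0, 2, 2, 0, 2],
    [2, 0, 1, 1, 0, 1, 1],
    [2, 0, 1, 1, 0, 1, 1, 0],
    [1, 0, 1, 1, 1, 0, 1, 0],
    [1, 0, 2, 0, 2, 0, 1, 1],
    [1, 0, 2, 0, 2, 0, 1, 1, 0],
    [1, 0, 2, 2, 0, 1, 0, 1, 1],
    [1, 0, 2, 2, 0, 1, 0, 1],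
    [2, 0, 1, 1, 0, 2, 0, 2],
    [0, 2, 0, 1, 1, 1],
    [0, 2, 0, 1, 1],
    [0, 2, 0, 1, 1, 0],
    [0, 2, 0, 1, 1, 0, 2],
    [1, 0, 1],
    [0, 1, 0, 2, 0, 2, 0, 1, 1, 0],
    [0, 1, 0, 2, 0, 2, 0, 1, 1],
    [0, 1, 1, 0, 1, 0, 1, 0],
    [1, 0, 2, 0, 2, 0, 1, 0, 1],
    [1, 0, 2, 0, 2],
    [0, 2, 0, 1, 1, 0, 1, 0],
    [0, 2, 0, 1, 1, 0, 1],
    [1, 0, 2, 0, 2, 2, 0],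
    [0, 1, 0, 2, 0, 2, 2, 0],
    [0, 1, 0, 2, 0, 2, 0, 2, 2],
    [1, 0, 2, 0, 2, 0, 2, 0, 1],
    [0, 1, 0, 2, 0, 2, 0, 2, 0],
    [0, 1, 0, 2, 0, 2, 0, 2],
    [0, 1, 0, 2, 0, 2, 0],
    [0, 1, 0, 2, 0, 2, 0, 1],
    [1, 0, 2, 0, 2, 0, 1, 0],
    [1, 0, 1, 1, 1],
    [1, 0, 1, 1],
    [1, 0, 2, 0, 2, 0, 2, 2],
    [1, 0, 2, 0, 2, 0, 2, 2, 0],
    [2, 0, 1, 0, 1, 0, 1, 0, 2],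
    [0, 1, 1, 0, 1, 1, 0, 2, 0],
    [0, 1, 1, 0, 1, 1, 0, 2, 0, 1],
    [1, 0, 2, 2, 0, 1, 0],
    [1, 0, 1, 1, 0],
    [0, 1, 0, 2, 0, 2, 0, 1, 0],
    [2, 0, 1, 0, 1, 0, 1],
    [2, 0, 1, 0, 1, 0, 1, 1],
    [2, 0, 1, 0, 1, 1, 1, 0],
    [2, 0, 1, 0, 1, 0, 2, 2],
    [2, 0, 1, 0, 1, 0, 2, 2, 0],
    [2, 0, 1, 1, 0, 1, 1, 0, 1],
    [0, 2, 2, 0, 2, 0],
    [2, 0, 1, 0, 1, 0, 1, 0],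
    [1, 0, 2, 0, 2, 0, 2, 0],
    [1, 0, 2, 0, 2, 0, 2],
    [1, 0, 2, 0, 2, 0],
    [2, 0, 1, 0, 1, 1, 0],
    [0, 2, 0, 1, 1, 0, 1, 0, 2, 2],
    [0, 2, 0, 1, 1, 0, 1, 0, 2],
    [0, 2, 0, 1, 0, 1, 1, 0],
    [0, 2, 0, 1, 0, 1, 1, 0, 1],
    [0, 2, 2, 0, 2, 0, 2],
    [0, 1, 1, 0, 1, 1, 0, 2],
    [0, 2, 0, 1, 0, 1, 1, 1, 0, 1],
    [2, 0, 1, 0, 1, 0, 1, 1, 0],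
    [0, 2, 2, 0, 2, 0, 1, 1, 1, 0],
    [0, 2, 0, 1, 0, 1, 1, 1, 0, 2, 0],
    [0, 2, 0, 1, 0, 1, 1, 1, 0, 2],
    [0, 2, 0, 1, 0, 1, 1, 1, 0],
    [1, 0, 2, 0, 2, 0, 1]]

/-- generators -/
def gens1 : List (List ℕ) := [[1, 1, 1],
    [0, 1, 0, 1, 1, 0, 1],
    [1, 0, 1, 0, 2, 0, 2],
    [0, 2, 0, 1, 0, 1, 0, 2, 0, 2, 0, 1, 0],
    [2, 2, 2],
    [2, 0, 2, 2, 0, 2, 0],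
    [1, 0, 1, 0, 2, 0, 2],
    [0, 2, 0, 1, 0, 1, 0, 2, 0, 2, 0, 1, 0]]

/-- base point -/
def base1 : ℕ := 23

/-- orbit words -/
def orbit1 : List (List ℕ) := [[],
    [1, 3, 1],
    [3, 5],
    [3, 0],
    [1, 2, 5, 0],
    [3, 5, 3, 2],
    [3, 5, 3, 1],
    [0, 2],
    [0, 5, 2, 0],
    [1, 1],
    [2, 3, 2, 3],
    [5, 2, 0],
    [3, 2, 0],
    [1, 2, 5],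
    [0],
    [1, 1, 2, 1],
    [5, 2],
    [1, 1, 2],
    [1, 0, 1, 2],
    [0, 2, 1, 2],
    [3],
    [0, 1, 2, 1],
    [1, 1, 3],
    [0, 1, 3, 5],
    [0, 1, 3, 0],
    [2, 0, 2, 5],
    [3, 2, 1, 0],
    [0, 1, 1],
    [2, 0, 1],
    [3, 0, 5, 0],
    [3, 5, 3],
    [0, 1, 3],
    [0, 1, 2, 5, 0],
    [0, 2, 3],
    [2, 5, 3],
    [1, 2, 5, 3],
    [0, 2, 1],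
    [2, 3, 1, 0],
    [1, 2, 3, 1],
    [0, 5, 2],
    [1, 3, 0],
    [2, 1, 0, 5],
    [0, 1, 1, 2],
    [2, 0],
    [0, 5, 2, 5],
    [0, 2, 1, 3],
    [0, 2, 5],
    [3, 0, 5],
    [3, 2],
    [0, 5],
    [2, 0, 3],
    [5],
    [2, 5],
    [3, 2, 1],
    [0, 1, 1, 0],
    [1, 2, 3, 0],
    [1, 1, 2, 5],
    [2, 1],
    [0, 5, 0, 2],
    [2],
    [2, 1, 0],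
    [0, 2, 5, 3],
    [0, 1],
    [2, 3],
    [2, 0, 2],
    [0, 1, 2],
    [2, 0, 5],
    [0, 5, 3],
    [0, 1, 2, 5],
    [5, 2, 5],
    [0, 1, 2, 0],
    [0, 3, 5],
    [0, 3],
    [5, 0],
    [0, 1, 3, 1],
    [1, 0, 1],
    [3, 0, 5, 3],
    [0, 5, 0],
    [1, 2, 3],
    [2, 3, 2],
    [2, 5, 0],
    [2, 3, 1],
    [0, 2, 1, 0],
    [1, 0],
    [1],
    [1, 3],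
    [5, 3],
    [1, 2],
    [5, 3, 0],
    [1, 2, 0]]

/-- generators -/
def gens2 : List (List ℕ) := [[0, 2, 0, 5, 5],
    [1, 0, 5, 7],
    [5, 0, 1, 4, 1, 4],
    [1, 1, 4, 6, 4],
    [3, 1, 4, 5],
    [0, 5, 0, 5, 4, 1]]

/-- base point -/
def base2 : ℕ := 10

/-- orbit words -/
def orbit2 : List (List ℕ) := [[],
    [5],
    [0, 1, 0],
    [0, 2, 2],
    [0, 1],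
    [2],
    [1],
    [0, 1, 5],
    [1, 5],
    [0, 2],
    [2, 2],
    [1, 2],
    [0, 5],
    [0],
    [1, 0],
    [0, 1, 2]]

/-- the element `c` as a path word -/
def cWord : List ℕ := [3, 3, 1, 2, 1, 2, 1, 3, 3, 1, 2, 2, 1, 3, 1, 3, 1, 2, 2, 1]

end Cfsg.Agent.HNBound
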