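import Cfsg.Agent.HNBound.StepPFacts0
import Cfsg.Agent.HNBound.StepPFacts1
import Cfsg.Agent.HNBound.StepPFacts2
import Cfsg.Agent.HNBound.StepPFacts3
import Cfsg.Agent.HNBound.StepPFacts4
import Cfsg.Agent.HNBound.StepPFacts5
import Cfsg.Agent.HNBound.StepPFacts6
import Cfsg.Agent.HNBound.StepPFacts7
import Cfsg.Agent.HNBound.StepPFacts8
import Cfsg.Agent.HNBound.StepPFacts9
import Cfsg.Agent.HNBound.StepPFacts10

/-! Machine-generated checks. -/

set_option maxRecDepth 100000

namespace Cfsg.Agent.HNBound

open Cfsg.Agent.CosetCert Cfsg.Agent.CosetEnum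

theorem stepP_facts : ∀ k < stepP.nf, stepP.cert.factOK k = true := by
  have s := fun (b : ℕ) (p : ∀ i < b, i < stepP.nf → stepP.cert.factOK i = true) (h : allB (fun k => Nat.ble stepP.nf k || stepP.cert.factOK k) 11 b = true) =>
    below_step (f := fun k => Nat.ble stepP.nf k || stepP.cert.factOK k) p (fun i h hi => of_ble_or h hi) h
  have a0 : ∀ i < 0, i < stepP.nf → stepP.cert.factOK i = true := below_zero
  have a1 := s 0 a0 stepP_fb0
  have a2 := s 2048 a1 stepP_fb1
  have a3 := s 4096 a2 stepP_fb2
  have a4 := s 6144 a3 stepP_fb3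
  have a5 := s 8192 a4 stepP_fb4
  have a6 := s 10240 a5 stepP_fb5
  have a7 := s 12288 a6 stepP_fb6
  have a8 := s 14336 a7 stepP_fb7
  have a9 := s 16384 a8 stepP_fb8
  have a10 := s 18432 a9 stepP_fb9
  have a11 := s 20480 a10 stepP_fb10
  have a12 := s 22528 a11 stepP_fb11
  have a13 := s 24576 a12 stepP_fb12
  have a14 := s 26624 a13 stepP_fb13
  have a15 := s 28672 a14 stepP_fb14
  have a16 := s 30720 a15 stepP_fb15
  have a17 := s 32768 a16 stepP_fb16
  have a18 := s 34816 a17 stepP_fb17
  have a19 := s 36864 a18 stepP_fb18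
  have a20 := s 38912 a19 stepP_fb19
  have a21 := s 40960 a20 stepP_fb20
  have a22 := s 43008 a21 stepP_fb21
  have a23 := s 45056 a22 stepP_fb22
  have a24 := s 47104 a23 stepP_fb23
  have a25 := s 49152 a24 stepP_fb24
  have a26 := s 51200 a25 stepP_fb25
  have a27 := s 53248 a26 stepP_fb26
  have a28 := s 55296 a27 stepP_fb27
  have a29 := s 57344 a28 stepP_fb28
  have a30 := s 59392 a29 stepP_fb29
  have a31 := s 61440 a30 stepP_fb30
  have a32 := s 63488 a31 stepP_fb31
  have a33 := s 65536 a32 stepP_fb32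
  have a34 := s 67584 a33 stepP_fb33
  have a35 := s 69632 a34 stepP_fb34
  have a36 := s 71680 a35 stepP_fb35
  have a37 := s 73728 a36 stepP_fb36
  have a38 := s 75776 a37 stepP_fb37
  have a39 := s 77824 a38 stepP_fb38
  have a40 := s 79872 a39 stepP_fb39
  have a41 := s 81920 a40 stepP_fb40
  have a42 := s 83968 a41 stepP_fb41
  have a43 := s 86016 a42 stepP_fb42
  have a44 := s 88064 a43 stepP_fb43
  have a45 := s 90112 a44 stepP_fb44
  have a46 := s 92160 a45 stepP_fb45
  have a47 := s 94208 a46 stepP_fb46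
  have a48 := s 96256 a47 stepP_fb47
  have a49 := s 98304 a48 stepP_fb48
  have a50 := s 100352 a49 stepP_fb49
  have a51 := s 102400 a50 stepP_fb50
  have a52 := s 104448 a51 stepP_fb51
  have a53 := s 106496 a52 stepP_fb52
  have a54 := s 108544 a53 stepP_fb53
  have a55 := s 110592 a54 stepP_fb54
  have a56 := s 112640 a55 stepP_fb55
  have a57 := s 114688 a56 stepP_fb56
  have a58 := s 116736 a57 stepP_fb57
  have a59 := s 118784 a58 stepP_fb58
  have a60 := s 120832 a59 stepP_fb59
  have a61 := s 122880 a60 stepP_fb60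
  have a62 := s 124928 a61 stepP_fb61
  have a63 := s 126976 a62 stepP_fb62
  have a64 := s 129024 a63 stepP_fb63
  have a65 := s 131072 a64 stepP_fb64
  have a66 := s 133120 a65 stepP_fb65
  have a67 := s 135168 a66 stepP_fb66
  have a68 := s 137216 a67 stepP_fb67
  have a69 := s 139264 a68 stepP_fb68
  have a70 := s 141312 a69 stepP_fb69
  have a71 := s 143360 a70 stepP_fb70
  have a72 := s 145408 a71 stepP_fb71
  have a73 := s 147456 a72 stepP_fb72
  have a74 := s 149504 a73 stepP_fb73
  have a75 := s 151552 a74 stepP_fb74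
  have a76 := s 153600 a75 stepP_fb75
  have a77 := s 155648 a76 stepP_fb76
  have a78 := s 157696 a77 stepP_fb77
  have a79 := s 159744 a78 stepP_fb78
  have a80 := s 161792 a79 stepP_fb79
  have a81 := s 163840 a80 stepP_fb80
  have a82 := s 165888 a81 stepP_fb81
  have a83 := s 167936 a82 stepP_fb82
  have a84 := s 169984 a83 stepP_fb83
  have a85 := s 172032 a84 stepP_fb84
  have a86 := s 174080 a85 stepP_fb85
  have a87 := s 176128 a86 stepP_fb86
  have a88 := s 178176 a87 stepP_fb87
  exact fun k hk => a88 k (lt_of_lt_of_le hk (by decide +kernel)) hk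

theorem stepP_rules : ∀ i < stepP.nr, stepP.ruleOK (stepP.rules.get stepP.rbits i) = true := by
  have h : allB (fun i => Nat.ble stepP.nr i || stepP.ruleOK (stepP.rules.get stepP.rbits i)) 8 0 = true := by
    decide +kernel
  exact fun i hi => of_ble_or (allB_spec_zero h (by decide +kernel) hi) hi

theorem stepP_subs : ∀ j ∈ List.range stepP.subs.length, unpack 65536 (stepP.cert.subw j) = stepP.subs.getD j [] := by
  decide +kernel

theorem stepP_pb0 : allB (fun i => Nat.ble stepP.N i || stepP.letters.all (stepP.edgeOK i)) 9 0 = true := by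
  decide +kernel

theorem stepP_edge : ∀ i < stepP.N, ∀ l ∈ stepP.letters, stepP.edgeOK i l = true := by
  have s := fun (b : ℕ) (p : ∀ i < b, i < stepP.N → stepP.letters.all (stepP.edgeOK i) = true) (h : allB (fun i => Nat.ble stepP.N i || stepP.letters.all (stepP.edgeOK i)) 9 b = true) =>
    below_step (f := fun i => Nat.ble stepP.N i || stepP.letters.all (stepP.edgeOK i)) p (fun i h hi => of_ble_or h hi) h
  have a0 : ∀ i < 0, i < stepP.N → stepP.letters.all (stepP.edgeOK i) = true := below_zero
  have a1 := s 0 a0 stepP_pb0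
  exact fun i hi l hl => List.all_eq_true.1 (a1 i (lt_of_lt_of_le hi (by decide +kernel)) hi) l hl

theorem stepP_valid : stepP.Valid where
  pos := by decide +kernel
  node_zero := by decide +kernel
  subs_unpack := stepP_subs
  rules_ok := stepP_rules
  facts := stepP_facts
  edge := stepP_edge

end Cfsg.Agent.HNBound
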