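import Cfsg.Agent.HNBound.StepQFacts0
import Cfsg.Agent.HNBound.StepQFacts1
import Cfsg.Agent.HNBound.StepQFacts2
import Cfsg.Agent.HNBound.StepQFacts3

/-! Machine-generated checks. -/

set_option maxRecDepth 100000

namespace Cfsg.Agent.HNBound

open Cfsg.Agent.CosetCert Cfsg.Agent.CosetEnum

theorem stepQ_facts : ∀ k < stepQ.nf, stepQ.cert.factOK k = true := by
  have s := fun (b : ℕ) (p : ∀ i < b, i < stepQ.nf → stepQ.cert.factOK i = true) (h : allB (fun k => Nat.ble stepQ.nf k || stepQ.cert.factOK k) 11 b = true) =>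
    below_step (f := fun k => Nat.ble stepQ.nf k || stepQ.cert.factOK k) p (fun i h hi => of_ble_or h hi) h
  have a0 : ∀ i < 0, i < stepQ.nf → stepQ.cert.factOK i = true := below_zero
  have a1 := s 0 a0 stepQ_fb0
  have a2 := s 2048 a1 stepQ_fb1
  have a3 := s 4096 a2 stepQ_fb2
  have a4 := s 6144 a3 stepQ_fb3
  have a5 := s 8192 a4 stepQ_fb4
  have a6 := s 10240 a5 stepQ_fb5
  have a7 := s 12288 a6 stepQ_fb6
  have a8 := s 14336 a7 stepQ_fb7
  have a9 := s 16384 a8 stepQ_fb8
  have a10 := s 18432 a9 stepQ_fb9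
  have a11 := s 20480 a10 stepQ_fb10
  have a12 := s 22528 a11 stepQ_fb11
  have a13 := s 24576 a12 stepQ_fb12
  have a14 := s 26624 a13 stepQ_fb13
  have a15 := s 28672 a14 stepQ_fb14
  have a16 := s 30720 a15 stepQ_fb15
  have a17 := s 32768 a16 stepQ_fb16
  have a18 := s 34816 a17 stepQ_fb17
  have a19 := s 36864 a18 stepQ_fb18
  have a20 := s 38912 a19 stepQ_fb19
  have a21 := s 40960 a20 stepQ_fb20
  have a22 := s 43008 a21 stepQ_fb21
  have a23 := s 45056 a22 stepQ_fb22
  have a24 := s 47104 a23 stepQ_fb23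
  have a25 := s 49152 a24 stepQ_fb24
  have a26 := s 51200 a25 stepQ_fb25
  have a27 := s 53248 a26 stepQ_fb26
  have a28 := s 55296 a27 stepQ_fb27
  have a29 := s 57344 a28 stepQ_fb28
  have a30 := s 59392 a29 stepQ_fb29
  have a31 := s 61440 a30 stepQ_fb30
  exact fun k hk => a31 k (lt_of_lt_of_le hk (by decide +kernel)) hk

theorem stepQ_rules : ∀ i < stepQ.nr, stepQ.ruleOK (stepQ.rules.get stepQ.rbits i) = true := by
  have h : allB (fun i => Nat.ble stepQ.nr i || stepQ.ruleOK (stepQ.rules.get stepQ.rbits i)) 7 0 = true := by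
    decide +kernel
  exact fun i hi => of_ble_or (allB_spec_zero h (by decide +kernel) hi) hi

theorem stepQ_subs : ∀ j ∈ List.range stepQ.subs.length, unpack 65536 (stepQ.cert.subw j) = stepQ.subs.getD j [] := by
  decide +kernel

theorem stepQ_pb0 : allB (fun i => Nat.ble stepQ.N i || stepQ.letters.all (stepQ.edgeOK i)) 11 0 = true := by
  decide +kernel

theorem stepQ_pb1 : allB (fun i => Nat.ble stepQ.N i || stepQ.letters.all (stepQ.edgeOK i)) 11 2048 = true := by
  decide +kernel

theorem stepQ_pb2 : allB (fun i => Nat.ble stepQ.N i || stepQ.letters.all (stepQ.edgeOK i)) 11 4096 = true := by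
  decide +kernel

theorem stepQ_pb3 : allB (fun i => Nat.ble stepQ.N i || stepQ.letters.all (stepQ.edgeOK i)) 11 6144 = true := by
  decide +kernel

theorem stepQ_pb4 : allB (fun i => Nat.ble stepQ.N i || stepQ.letters.all (stepQ.edgeOK i)) 11 8192 = true := by
  decide +kernel

theorem stepQ_pb5 : allB (fun i => Nat.ble stepQ.N i || stepQ.letters.all (stepQ.edgeOK i)) 11 10240 = true := by
  decide +kernel

theorem stepQ_pb6 : allB (fun i => Nat.ble stepQ.N i || stepQ.letters.all (stepQ.edgeOK i)) 11 12288 = true := by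
  decide +kernel

theorem stepQ_pb7 : allB (fun i => Nat.ble stepQ.N i || stepQ.letters.all (stepQ.edgeOK i)) 11 14336 = true := by
  decide +kernel

theorem stepQ_pb8 : allB (fun i => Nat.ble stepQ.N i || stepQ.letters.all (stepQ.edgeOK i)) 11 16384 = true := by
  decide +kernel

theorem stepQ_pb9 : allB (fun i => Nat.ble stepQ.N i || stepQ.letters.all (stepQ.edgeOK i)) 11 18432 = true := by
  decide +kernel

theorem stepQ_pb10 : allB (fun i => Nat.ble stepQ.N i || stepQ.letters.all (stepQ.edgeOK i)) 11 20480 = true := by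
  decide +kernel

theorem stepQ_pb11 : allB (fun i => Nat.ble stepQ.N i || stepQ.letters.all (stepQ.edgeOK i)) 11 22528 = true := by
  decide +kernel

theorem stepQ_pb12 : allB (fun i => Nat.ble stepQ.N i || stepQ.letters.all (stepQ.edgeOK i)) 11 24576 = true := by
  decide +kernel

theorem stepQ_pb13 : allB (fun i => Nat.ble stepQ.N i || stepQ.letters.all (stepQ.edgeOK i)) 11 26624 = true := by
  decide +kernel

theorem stepQ_pb14 : allB (fun i => Nat.ble stepQ.N i || stepQ.letters.all (stepQ.edgeOK i)) 11 28672 = true := by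
  decide +kernel

theorem stepQ_pb15 : allB (fun i => Nat.ble stepQ.N i || stepQ.letters.all (stepQ.edgeOK i)) 11 30720 = true := by
  decide +kernel

theorem stepQ_pb16 : allB (fun i => Nat.ble stepQ.N i || stepQ.letters.all (stepQ.edgeOK i)) 11 32768 = true := by
  decide +kernel

theorem stepQ_pb17 : allB (fun i => Nat.ble stepQ.N i || stepQ.letters.all (stepQ.edgeOK i)) 11 34816 = true := by
  decide +kernel

theorem stepQ_pb18 : allB (fun i => Nat.ble stepQ.N i || stepQ.letters.all (stepQ.edgeOK i)) 11 36864 = true := by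
  decide +kernel

theorem stepQ_pb19 : allB (fun i => Nat.ble stepQ.N i || stepQ.letters.all (stepQ.edgeOK i)) 11 38912 = true := by
  decide +kernel

theorem stepQ_pb20 : allB (fun i => Nat.ble stepQ.N i || stepQ.letters.all (stepQ.edgeOK i)) 11 40960 = true := by
  decide +kernel

theorem stepQ_edge : ∀ i < stepQ.N, ∀ l ∈ stepQ.letters, stepQ.edgeOK i l = true := by
  have s := fun (b : ℕ) (p : ∀ i < b, i < stepQ.N → stepQ.letters.all (stepQ.edgeOK i) = true) (h : allB (fun i => Nat.ble stepQ.N i || stepQ.letters.all (stepQ.edgeOK i)) 11 b = true) =>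
    below_step (f := fun i => Nat.ble stepQ.N i || stepQ.letters.all (stepQ.edgeOK i)) p (fun i h hi => of_ble_or h hi) h
  have a0 : ∀ i < 0, i < stepQ.N → stepQ.letters.all (stepQ.edgeOK i) = true := below_zero
  have a1 := s 0 a0 stepQ_pb0
  have a2 := s 2048 a1 stepQ_pb1
  have a3 := s 4096 a2 stepQ_pb2
  have a4 := s 6144 a3 stepQ_pb3
  have a5 := s 8192 a4 stepQ_pb4
  have a6 := s 10240 a5 stepQ_pb5
  have a7 := s 12288 a6 stepQ_pb6
  have a8 := s 14336 a7 stepQ_pb7
  have a9 := s 16384 a8 stepQ_pb8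
  have a10 := s 18432 a9 stepQ_pb9
  have a11 := s 20480 a10 stepQ_pb10
  have a12 := s 22528 a11 stepQ_pb11
  have a13 := s 24576 a12 stepQ_pb12
  have a14 := s 26624 a13 stepQ_pb13
  have a15 := s 28672 a14 stepQ_pb14
  have a16 := s 30720 a15 stepQ_pb15
  have a17 := s 32768 a16 stepQ_pb16
  have a18 := s 34816 a17 stepQ_pb17
  have a19 := s 36864 a18 stepQ_pb18
  have a20 := s 38912 a19 stepQ_pb19
  have a21 := s 40960 a20 stepQ_pb20
  exact fun i hi l hl => List.all_eq_true.1 (a21 i (lt_of_lt_of_le hi (by decide +kernel)) hi) l hl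

theorem stepQ_valid : stepQ.Valid where
  pos := by decide +kernel
  node_zero := by decide +kernel
  subs_unpack := stepQ_subs
  rules_ok := stepQ_rules
  facts := stepQ_facts
  edge := stepQ_edge

end Cfsg.Agent.HNBound
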